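import Groth.Prelude.Def_W4c5modbuncurvesppStab
import Groth.Agent.Lib.LabGraph.Basic
import Mathlib.Algebra.Order.Floor.Ring
import Mathlib.Algebra.BigOperators.Field
import Mathlib.Data.Real.Archimedean
import Mathlib.Algebra.Order.BigOperators.Group.Finset

/-!
# Stability of degree data on finite multigraphs
-/

set_option autoImplicit false

universe u

open Finset LabGraph

namespace GrothLib.PhiStab

set_option linter.unusedSectionVars false

variable {V E : Type u} [Fintype V] [Fintype E] [DecidableEq V] [DecidableEq E] (ends : E → V × V)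

/-- indicator difference along an edge -/
def delta (S : Finset V) (e : E) : ℝ :=
  (if (ends e).1 ∈ S then 1 else 0) - (if (ends e).2 ∈ S then 1 else 0)

section tree

variable {ends}

theorem exists_cutSet (hT : DualGr.IsTree ends) (e : E) :
    ∃ R : Finset V, (ends e).1 ∈ R ∧ (ends e).2 ∉ R ∧
      ∀ e', e' ≠ e → ((ends e').1 ∈ R ↔ (ends e').2 ∈ R) := by
  obtain ⟨ψ, hψ, hd⟩ := GrothLib.LabGraph.exists_cut (ends := ends) (F := univ) (fun Z h _ => hT.2 Z h) (mem_univ e)
  refine ⟨univ.filter fun v => ψ v = 0, ?_, ?_, fun e' he' => ?_⟩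
  · have := hd e (mem_univ e); simp [GrothLib.LabGraph.dlt] at this
    rcases hψ (ends e).1 with h | h <;> rcases hψ (ends e).2 with h' | h' <;> simp [h, h'] at this ⊢
  · have := hd e (mem_univ e); simp [GrothLib.LabGraph.dlt] at this
    rcases hψ (ends e).1 with h | h <;> rcases hψ (ends e).2 with h' | h' <;> simp [h, h'] at this ⊢
  · have := hd e' (mem_univ e'); simp [GrothLib.LabGraph.dlt, he', sub_eq_zero] at this
    simp [this]

theorem exists_coordinates (hT : DualGr.IsTree ends) :
    ∃ R : E → Finset V, (∀ e, (ends e).1 ∈ R e ∧ (ends e).2 ∉ R e ∧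
      ∀ e', e' ≠ e → ((ends e').1 ∈ R e ↔ (ends e').2 ∈ R e)) := by
  choose R h1 h2 h3 using exists_cutSet hT
  exact ⟨R, fun e => ⟨h1 e, h2 e, h3 e⟩⟩

theorem side_eq (hT : DualGr.IsTree ends) (e : E) {R : Finset V} (h1 : (ends e).1 ∈ R) (h2 : (ends e).2 ∉ R)
    (h3 : ∀ e', e' ≠ e → ((ends e').1 ∈ R ↔ (ends e').2 ∈ R)) : PhiStab.side ends e = R := by
  classical
  let A := Relation.ReflTransGen (LabGraph.Adj (PhiStab.spanEnds ends (univ.erase e)))
  have hA : ∀ a b, A a b → (a ∈ R ↔ b ∈ R) := by
    intro a b h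
    induction h with
    | refl => rfl
    | tail _ hxy ih =>
      obtain ⟨⟨e', he'⟩, hh⟩ := hxy
      have hne := (Finset.mem_erase.1 he').1
      rcases hh with hh | hh <;>
        · change ends e' = _ at hh
          have := h3 e' hne
          rw [hh] at this
          rw [ih]; tauto
  have hB : ∀ v, A (ends e).1 v ∨ A (ends e).2 v := by
    intro v
    induction hT.1.2 (ends e).1 v with
    | refl => exact .inl .refl
    | tail _ hxy ih =>
      obtain ⟨e', hh⟩ := hxy
      by_cases he' : e' = e
      · subst he'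
        rcases hh with hh | hh <;> rw [hh]
        · exact .inr .refl
        · exact .inl .refl
      · have step : LabGraph.Adj (PhiStab.spanEnds ends (univ.erase e)) _ _ :=
          ⟨⟨e', mem_erase.2 ⟨he', mem_univ _⟩⟩, hh⟩
        exact ih.imp (fun h => h.tail step) (fun h => h.tail step)
  ext v
  simp only [PhiStab.side, mem_filter, mem_univ, true_and]
  refine ⟨fun h => (hA _ _ h).1 h1, fun hv => (hB v).resolve_right fun h => h2 ((hA _ _ h).2 hv)⟩

theorem exists_sum_eq {M : Type} [AddCommGroup M] (R : E → Finset V)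
    (hR : ∀ e, (ends e).1 ∈ R e ∧ (ends e).2 ∉ R e ∧
      ∀ e', e' ≠ e → ((ends e').1 ∈ R e ↔ (ends e').2 ∈ R e))
    (root : V) (c : E → M) (c₀ : M) :
    ∃ f : V → M, (∀ e, ∑ v ∈ R e, f v = c e) ∧ ∑ v, f v = c₀ := by
  let x : E → M := fun e => c e - (if root ∈ R e then c₀ else 0)
  refine ⟨fun v => (if v = root then c₀ else 0) +
    ∑ e', ((if v = (ends e').1 then x e' else 0) - (if v = (ends e').2 then x e' else 0)), fun e => ?_, ?_⟩
  · rw [sum_add_distrib, sum_comm]
    have h : ∀ e', ∑ v ∈ R e, ((if v = (ends e').1 then x e' else 0) - (if v = (ends e').2 then x e' else 0)) =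
        if e' = e then x e else 0 := by
      intro e'
      rw [sum_sub_distrib, sum_ite_eq', sum_ite_eq']
      by_cases he' : e' = e
      · subst he'; simp [(hR e').1, (hR e').2.1]
      · simp [he', (hR e).2.2 e' he']
    rw [sum_congr rfl (fun e' _ => h e'), sum_ite_eq', sum_ite_eq']
    simp [x]
  · rw [sum_add_distrib, sum_comm]
    simp

theorem sum_mul_eq (hT : DualGr.IsTree ends) (R : E → Finset V)
    (hR : ∀ e, (ends e).1 ∈ R e ∧ (ends e).2 ∉ R e ∧
      ∀ e', e' ≠ e → ((ends e').1 ∈ R e ↔ (ends e').2 ∈ R e))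
    (g : V → ℝ) (hg : ∑ v, g v = 0) (S : Finset V) :
    ∑ v ∈ S, g v = ∑ e, delta ends S e * ∑ v ∈ R e, g v := by
  let h : V → ℝ := fun v => (if v ∈ S then 1 else 0) - ∑ e, delta ends S e * (if v ∈ R e then 1 else 0)
  have hedge : ∀ e, h (ends e).1 = h (ends e).2 := by
    intro e
    have key : (∑ e', delta ends S e' * (if (ends e).1 ∈ R e' then 1 else 0)) -
        ∑ e', delta ends S e' * (if (ends e).2 ∈ R e' then 1 else 0) = delta ends S e := by
      rw [← sum_sub_distrib]
      refine (sum_eq_single e (fun e' _ hne => ?_) (fun h => absurd (mem_univ e) h)).trans ?_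
      · simp [(hR e').2.2 e (Ne.symm hne)]
      · simp [(hR e).1, (hR e).2.1]
    simp only [h, delta] at key ⊢
    linarith
  obtain ⟨v₀⟩ := hT.1.1
  have hconst : ∀ v, h v = h v₀ := fun v =>
    ((GrothLib.LabGraph.linked_univ hT.1 v₀ v).apply_eq h fun e _ => hedge e).symm
  have : ∑ v, g v * h v = 0 := by simp only [hconst, ← sum_mul, hg, zero_mul]
  simp only [h, mul_sub, sum_sub_distrib, mul_sum, mul_ite, mul_one, mul_zero, sum_ite_mem, univ_inter] at this
  rw [sum_comm] at this
  have e2 : ∀ e, ∑ v, (if v ∈ R e then g v * delta ends S e else 0) = delta ends S e * ∑ v ∈ R e, g v := by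
    intro e
    rw [sum_ite_mem, univ_inter, mul_sum]
    exact sum_congr rfl fun v _ => mul_comm _ _
  rw [sum_congr rfl (fun e _ => e2 e)] at this
  linarith

end tree

/-- edges crossing `S` -/
def crossing (S : Finset V) : Finset E :=
  univ.filter fun e => ((ends e).1 ∈ S ∧ (ends e).2 ∉ S) ∨ ((ends e).1 ∉ S ∧ (ends e).2 ∈ S)

theorem cut_eq_card (S : Finset V) : LabGraph.cut ends S = (crossing ends S).card := rfl

/-- half edge density -/
noncomputable def wt (φ : V → ℝ) (m : V → ℤ) (N : Finset E) (v : V) : ℝ :=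
  (m v : ℝ) - φ v + (endCount ends N v : ℝ) / 2

/-- slack -/
noncomputable def slack (φ : V → ℝ) (m : V → ℤ) (N : Finset E) (S : Finset V) : ℝ :=
  (PhiStab.degOn ends m N S : ℝ) - ((∑ v ∈ S, φ v) - (LabGraph.cut ends S : ℝ) / 2)

theorem slack_eq (φ : V → ℝ) (m : V → ℤ) (N : Finset E) (S : Finset V) :
    slack ends φ m N S = ∑ v ∈ S, wt ends φ m N v + ((crossing ends S \ N).card : ℝ) / 2 := by
  have h1 : ∑ v ∈ S, (endCount ends N v : ℝ) =
      2 * ((N ∩ PhiStab.inner ends S).card : ℝ) + ((crossing ends S ∩ N).card : ℝ) := by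
    simp only [endCount, Nat.cast_sum, Nat.cast_add]
    rw [sum_comm]
    have : ∀ e ∈ N, ∑ v ∈ S, (((if (ends e).1 = v then (1:ℕ) else 0 : ℕ) : ℝ) + ((if (ends e).2 = v then (1:ℕ) else 0 : ℕ) : ℝ)) =
        2 * (if e ∈ PhiStab.inner ends S then (1:ℝ) else 0) + (if e ∈ crossing ends S then 1 else 0) := by
      intro e _
      simp only [sum_add_distrib, Nat.cast_ite, Nat.cast_one, Nat.cast_zero, sum_ite_eq, PhiStab.inner, crossing,
        mem_filter, mem_univ, true_and]
      by_cases h1 : (ends e).1 ∈ S <;> by_cases h2 : (ends e).2 ∈ S <;> simp [h1, h2] <;> norm_num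
    rw [sum_congr rfl this, sum_add_distrib, ← mul_sum, sum_boole, sum_boole, filter_mem_eq_inter, filter_mem_eq_inter,
      inter_comm (crossing ends S)]
  have h2 : ((crossing ends S).card : ℝ) = ((crossing ends S ∩ N).card : ℝ) + ((crossing ends S \ N).card : ℝ) := by
    exact_mod_cast (card_inter_add_card_sdiff _ _).symm
  simp only [slack, PhiStab.degOn, cut_eq_card, wt, sum_add_distrib, sum_sub_distrib, ← sum_div, h1, h2]
  push_cast
  ring

variable {ends}

theorem crossing_compl (S : Finset V) : crossing ends Sᶜ = crossing ends S := by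
  ext e; simp [crossing]; tauto

theorem wt_total {φ : V → ℝ} {m : V → ℤ} {N : Finset E}
    (hdeg : (∑ v : V, φ v) = (PhiStab.totDeg m N : ℝ)) : ∑ v, wt ends φ m N v = 0 := by
  have h := slack_eq ends φ m N univ
  have hc : crossing ends univ = ∅ := by simp [crossing]
  have hi : PhiStab.inner ends univ = univ := by simp [PhiStab.inner]
  rw [slack, PhiStab.degOn, cut_eq_card, hc, hi] at h
  simp [PhiStab.totDeg] at hdeg h
  linarith

theorem slack_add_compl {φ : V → ℝ} {m : V → ℤ} {N : Finset E}
    (hdeg : (∑ v : V, φ v) = (PhiStab.totDeg m N : ℝ)) (S : Finset V) :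
    slack ends φ m N S + slack ends φ m N Sᶜ = ((crossing ends S \ N).card : ℝ) := by
  rw [slack_eq, slack_eq, crossing_compl]
  have := sum_add_sum_compl S (wt ends φ m N)
  rw [wt_total hdeg] at this
  linarith

/-- no edge between -/
def NoEdge (S T : Finset V) : Prop :=
  ∀ e, ¬ (((ends e).1 ∈ S ∧ (ends e).2 ∈ T) ∨ ((ends e).2 ∈ S ∧ (ends e).1 ∈ T))

theorem slack_union {φ : V → ℝ} {m : V → ℤ} {N : Finset E} {S T : Finset V} (hd : Disjoint S T)
    (hn : NoEdge (ends := ends) S T) :
    slack ends φ m N (S ∪ T) = slack ends φ m N S + slack ends φ m N T := by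
  have hc : crossing ends (S ∪ T) = crossing ends S ∪ crossing ends T := by
    ext e
    have := hn e
    have h1 : (ends e).1 ∈ S → (ends e).1 ∉ T := fun h => Finset.disjoint_left.1 hd h
    have h2 : (ends e).2 ∈ S → (ends e).2 ∉ T := fun h => Finset.disjoint_left.1 hd h
    simp [crossing]; tauto
  have hcd : Disjoint (crossing ends S \ N) (crossing ends T \ N) := by
    rw [Finset.disjoint_left]
    intro e h h'
    have := hn e
    have h1 : (ends e).1 ∈ S → (ends e).1 ∉ T := fun h => Finset.disjoint_left.1 hd h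
    have h2 : (ends e).2 ∈ S → (ends e).2 ∉ T := fun h => Finset.disjoint_left.1 hd h
    simp [crossing] at h h'; tauto
  rw [slack_eq, slack_eq, slack_eq, sum_union hd, hc, union_sdiff_distrib, card_union_of_disjoint hcd]
  push_cast; ring

theorem exists_split {S : Finset V} (hS : S.Nonempty) (h : ¬ LabGraph.Connected (PhiStab.indEnds ends S)) :
    ∃ A B : Finset V, A.Nonempty ∧ B.Nonempty ∧ Disjoint A B ∧ A ∪ B = S ∧ NoEdge (ends := ends) A B := by
  classical
  obtain ⟨v₀, hv₀⟩ := hS
  have : ∃ a b, ¬ Relation.ReflTransGen (LabGraph.Adj (PhiStab.indEnds ends S)) a b := by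
    by_contra hh
    push Not at hh
    exact h ⟨⟨⟨v₀, hv₀⟩⟩, hh⟩
  obtain ⟨a, b, hab⟩ := this
  let R := Relation.ReflTransGen (LabGraph.Adj (PhiStab.indEnds ends S))
  let A := (univ.filter fun x : {v // v ∈ S} => R a x).map (Function.Embedding.subtype _)
  let B := (univ.filter fun x : {v // v ∈ S} => ¬ R a x).map (Function.Embedding.subtype _)
  have hA : ∀ v, v ∈ A ↔ ∃ h : v ∈ S, R a ⟨v, h⟩ := by simp [A]
  have hB : ∀ v, v ∈ B ↔ ∃ h : v ∈ S, ¬ R a ⟨v, h⟩ := by simp [B]
  refine ⟨A, B, ⟨a.1, (hA _).2 ⟨a.2, .refl⟩⟩, ⟨b.1, (hB _).2 ⟨b.2, hab⟩⟩, ?_, ?_, ?_⟩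
  · rw [Finset.disjoint_left]
    intro v h1 h2
    obtain ⟨_, h1⟩ := (hA v).1 h1
    obtain ⟨_, h2⟩ := (hB v).1 h2
    exact h2 h1
  · ext v
    rw [mem_union, hA, hB]
    refine ⟨fun h => h.elim (·.1) (·.1), fun h => ?_⟩
    by_cases hr : R a ⟨v, h⟩
    · exact .inl ⟨h, hr⟩
    · exact .inr ⟨h, hr⟩
  · intro e
    rintro (⟨h1, h2⟩ | ⟨h1, h2⟩) <;>
    · obtain ⟨m1, h1⟩ := (hA _).1 h1
      obtain ⟨m2, h2⟩ := (hB _).1 h2
      refine h2 (h1.tail ⟨⟨e, by simp [PhiStab.inner, m1, m2]⟩, ?_⟩)
      first | exact .inl rfl | exact .inr rfl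

/-- Inequalities on elementary sets suffice. -/
theorem slack_of_elementary (hconn : LabGraph.Connected ends) {φ : V → ℝ} {m : V → ℤ} {N : Finset E}
    (hdeg : (∑ v : V, φ v) = (PhiStab.totDeg m N : ℝ)) (P : ℝ → Prop) (hP : ∀ x y, P x → P y → P (x + y))
    (h : ∀ S, PhiStab.IsElementary ends S → P (slack ends φ m N S))
    (S : Finset V) (hS : S.Nonempty) (hS' : S ≠ univ) : P (slack ends φ m N S) := by
  have hc : ∀ S : Finset V, S.Nonempty → S ≠ univ → LabGraph.Connected (PhiStab.indEnds ends S) →
      P (slack ends φ m N S) := by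
    intro S
    induction hn : Sᶜ.card using Nat.strong_induction_on generalizing S with
    | _ n ih =>
      intro hS hS' hcS
      by_cases hcS' : LabGraph.Connected (PhiStab.indEnds ends Sᶜ)
      · exact h S ⟨hcS, hcS'⟩
      · obtain ⟨A, B, hA, hB, hd, hAB, hne⟩ :=
          exists_split (ends := ends) (by rwa [← card_pos, card_compl, Nat.sub_pos_iff_lt, card_lt_iff_ne_univ]) hcS'
        have key : ∀ A B : Finset V, A.Nonempty → B.Nonempty → Disjoint A B → A ∪ B = Sᶜ →
            NoEdge (ends := ends) A B → P (slack ends φ m N Aᶜ) := by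
          intro A B hA hB hd hAB hne
          have hSA : ∀ v, v ∈ S → v ∉ A := fun v hv hvA => by
            have : v ∈ Sᶜ := hAB ▸ mem_union_left _ hvA
            exact mem_compl.1 this hv
          have hlt : A.card < n := by
            have hcard := card_union_of_disjoint hd
            rw [hAB, hn] at hcard
            have := hB.card_pos
            omega
          obtain ⟨s₀, hs₀⟩ := hS
          have hs₀A : s₀ ∈ Aᶜ := mem_compl.2 (hSA _ hs₀)
          refine ih A.card hlt Aᶜ (by rw [compl_compl]) ⟨s₀, hs₀A⟩ (fun hu => ?_) ⟨⟨⟨s₀, hs₀A⟩⟩, ?_⟩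
          · obtain ⟨a, ha⟩ := hA
            exact mem_compl.1 (hu ▸ mem_univ a : a ∈ Aᶜ) ha
          let R := Relation.ReflTransGen (LabGraph.Adj (PhiStab.indEnds ends Aᶜ))
          have hsymm : ∀ x y, R x y → R y x := fun x y hxy =>
            by
              induction hxy with
              | refl => exact .refl
              | tail _ hs ihs =>
                obtain ⟨e, he⟩ := hs
                exact Relation.ReflTransGen.head ⟨e, he.symm⟩ ihs
          have hSS : ∀ x y, ∀ hx : x ∈ S, ∀ hy : y ∈ S,
              R ⟨x, mem_compl.2 (hSA _ hx)⟩ ⟨y, mem_compl.2 (hSA _ hy)⟩ := by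
            intro x y hx hy
            suffices ∀ z w : {v // v ∈ S}, Relation.ReflTransGen (LabGraph.Adj (PhiStab.indEnds ends S)) z w →
                R ⟨z.1, mem_compl.2 (hSA _ z.2)⟩ ⟨w.1, mem_compl.2 (hSA _ w.2)⟩ from this _ _ (hcS.2 ⟨x, hx⟩ ⟨y, hy⟩)
            intro z w h
            induction h with
            | refl => exact .refl
            | tail _ hs ihs =>
              refine ihs.tail ?_
              obtain ⟨⟨e, he⟩, hh⟩ := hs
              have he' := (mem_filter.1 he).2
              refine ⟨⟨e, mem_filter.2 ⟨mem_univ _, mem_compl.2 (hSA _ he'.1), mem_compl.2 (hSA _ he'.2)⟩⟩, ?_⟩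
              exact hh.imp (fun h => Prod.ext (Subtype.ext (congrArg (fun p => p.1.1) h)) (Subtype.ext (congrArg (fun p => p.2.1) h)))
                (fun h => Prod.ext (Subtype.ext (congrArg (fun p => p.1.1) h)) (Subtype.ext (congrArg (fun p => p.2.1) h)))
          have hto : ∀ x, ∀ hx : x ∈ Aᶜ, R ⟨x, hx⟩ ⟨s₀, hs₀A⟩ := by
            intro x
            induction hconn.2 x s₀ using Relation.ReflTransGen.head_induction_on with
            | refl => exact fun _ => .refl
            | @head x y hxy _ ihp =>
              intro hx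
              by_cases hxS : x ∈ S
              · exact hSS x s₀ hxS hs₀
              · obtain ⟨e, he⟩ := hxy
                have hxB : x ∈ B := by
                  have : x ∈ A ∪ B := hAB ▸ mem_compl.2 hxS
                  exact (mem_union.1 this).resolve_left (mem_compl.1 hx)
                have hyA : y ∈ Aᶜ := mem_compl.2 fun hy => by
                  rcases he with he | he
                  · exact hne e (.inr ⟨by simpa [he] using hy, by simpa [he] using hxB⟩)
                  · exact hne e (.inl ⟨by simpa [he] using hy, by simpa [he] using hxB⟩)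
                refine Relation.ReflTransGen.head ?_ (ihp hyA)
                rcases he with he | he
                · exact ⟨⟨e, mem_filter.2 ⟨mem_univ _, by simpa [he] using hx, by simpa [he] using hyA⟩⟩,
                    .inl (Prod.ext (Subtype.ext (congrArg Prod.fst he)) (Subtype.ext (congrArg Prod.snd he)))⟩
                · exact ⟨⟨e, mem_filter.2 ⟨mem_univ _, by simpa [he] using hyA, by simpa [he] using hx⟩⟩,
                    .inr (Prod.ext (Subtype.ext (congrArg Prod.fst he)) (Subtype.ext (congrArg Prod.snd he)))⟩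
          exact fun x y => (hto x.1 x.2).trans (hsymm _ _ (hto y.1 y.2))
        have e1 := slack_add_compl (ends := ends) hdeg A
        have e2 := slack_add_compl (ends := ends) hdeg B
        have e3 := slack_add_compl (ends := ends) hdeg S
        have e4 := slack_union (ends := ends) (φ := φ) (m := m) (N := N) hd hne
        have e5 : ((crossing ends S \ N).card : ℝ) = (crossing ends A \ N).card + (crossing ends B \ N).card := by
          have hc : crossing ends S = crossing ends A ∪ crossing ends B := by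
            ext e
            have := hne e
            have h1 : (ends e).1 ∈ A → (ends e).1 ∉ B := fun h => Finset.disjoint_left.1 hd h
            have h2 : (ends e).2 ∈ A → (ends e).2 ∉ B := fun h => Finset.disjoint_left.1 hd h
            have h3 : ∀ v, v ∉ S ↔ v ∈ A ∨ v ∈ B := fun v => by rw [← mem_compl, ← hAB, mem_union]
            have h4 := h3 (ends e).1
            have h5 := h3 (ends e).2
            simp [crossing]; tauto
          have hcd : Disjoint (crossing ends A \ N) (crossing ends B \ N) := by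
            rw [Finset.disjoint_left]
            intro e h h'
            have := hne e
            have h1 : (ends e).1 ∈ A → (ends e).1 ∉ B := fun h => Finset.disjoint_left.1 hd h
            have h2 : (ends e).2 ∈ A → (ends e).2 ∉ B := fun h => Finset.disjoint_left.1 hd h
            simp [crossing] at h h'; tauto
          rw [hc, union_sdiff_distrib, card_union_of_disjoint hcd]
          push_cast; ring
        have : slack ends φ m N S = slack ends φ m N Aᶜ + slack ends φ m N Bᶜ := by
          rw [hAB] at e4; linarith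
        rw [this]
        exact hP _ _ (key A B hA hB hd hAB hne)
          (key B A hB hA hd.symm (union_comm A B ▸ hAB) (fun e he => hne e (by tauto)))
  induction hn : S.card using Nat.strong_induction_on generalizing S with
  | _ n ih =>
    by_cases hcS : LabGraph.Connected (PhiStab.indEnds ends S)
    · exact hc S hS hS' hcS
    · obtain ⟨A, B, hA, hB, hd, hAB, hne⟩ := exists_split hS hcS
      have hcard := card_union_of_disjoint hd
      rw [hAB] at hcard
      have hA' := hA.card_pos
      have hB' := hB.card_pos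
      have hle := S.card_le_univ
      rw [← hAB, slack_union hd hne]
      refine hP _ _ (ih A.card (by omega) A hA ?_ rfl) (ih B.card (by omega) B hB ?_ rfl) <;>
      · intro hu
        rw [hu, card_univ] at hcard
        omega

/-- semistable as slack -/
theorem semistable_iff (φ : V → ℝ) (m : V → ℤ) (N : Finset E) :
    PhiStab.IsSemistable ends φ m N ↔ ∀ S : Finset V, S.Nonempty → S ≠ univ → 0 ≤ slack ends φ m N S := by
  simp [PhiStab.IsSemistable, slack]

theorem stable_iff (φ : V → ℝ) (m : V → ℤ) (N : Finset E) :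
    PhiStab.IsStable ends φ m N ↔ ∀ S : Finset V, S.Nonempty → S ≠ univ → 0 < slack ends φ m N S := by
  simp [PhiStab.IsStable, slack]

theorem ne_univ_of_elementary {S : Finset V} (h : PhiStab.IsElementary ends S) : S.Nonempty ∧ S ≠ univ := by
  obtain ⟨⟨⟨v, hv⟩⟩, ⟨w, hw⟩⟩ := h.1.1, h.2.1.some
  exact ⟨⟨v, hv⟩, fun hu => mem_compl.1 hw (hu ▸ mem_univ w)⟩

end GrothLib.PhiStab
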