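import Groth.Agent.Lib.PhiStab.Basic

/-!
# Degree data attached to spanning trees
-/

set_option autoImplicit false

universe u

open Finset LabGraph

namespace GrothLib.PhiStab

set_option linter.unusedSectionVars false

variable {V E : Type u} [Fintype V] [Fintype E] [DecidableEq V] [DecidableEq E] {ends : E → V × V} {T : Finset E}

theorem crossing_compl_tree (S : Finset V) : crossing ends S \ Tᶜ = crossing ends S ∩ T := by
  ext e; simp

theorem crossing_inter_eq {R : Finset V} {e : {e : E // e ∈ T}}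
    (h : (ends e.1).1 ∈ R ∧ (ends e.1).2 ∉ R ∧
      ∀ e' : {e : E // e ∈ T}, e' ≠ e → ((ends e'.1).1 ∈ R ↔ (ends e'.1).2 ∈ R)) :
    crossing ends R ∩ T = {e.1} := by
  ext x
  simp only [mem_inter, mem_singleton, crossing, mem_filter, mem_univ, true_and]
  constructor
  · rintro ⟨hx, hxT⟩
    by_contra hne
    have := h.2.2 ⟨x, hxT⟩ (fun hh => hne (congrArg Subtype.val hh))
    simp at this; tauto
  · rintro rfl
    exact ⟨.inl ⟨h.1, h.2.1⟩, e.2⟩

theorem slack_lt_one {φ : V → ℝ} {m : V → ℤ} (hdeg : (∑ v : V, φ v) = (PhiStab.totDeg m Tᶜ : ℝ))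
    (hs : PhiStab.IsStable ends φ m Tᶜ) {S : Finset V} (hS : S.Nonempty) (hS' : S ≠ univ)
    (h : (crossing ends S ∩ T).card = 1) :
    0 < slack ends φ m Tᶜ S ∧ slack ends φ m Tᶜ S < 1 := by
  rw [stable_iff] at hs
  have h1 := hs S hS hS'
  have h2 := hs Sᶜ (by rwa [← card_pos, card_compl, Nat.sub_pos_iff_lt, card_lt_iff_ne_univ])
    (fun hu => by simp [compl_eq_univ_iff] at hu; simp [hu] at hS)
  have h3 := slack_add_compl (ends := ends) hdeg S
  rw [crossing_compl_tree, h, Nat.cast_one] at h3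
  exact ⟨h1, by linarith⟩

theorem exists_semistable (hT : DualGr.IsTree (PhiStab.spanEnds ends T)) (b : ℤ) (φ : V → ℝ)
    (hφ : (∑ v : V, φ v) = (b : ℝ)) :
    ∃ m : V → ℤ, PhiStab.totDeg m Tᶜ = b ∧ PhiStab.IsSemistable ends φ m Tᶜ := by
  obtain ⟨R, hR⟩ := exists_coordinates hT
  obtain ⟨root⟩ := hT.1.1
  let α : {e : E // e ∈ T} → ℝ := fun e => ∑ v ∈ R e, ((endCount ends Tᶜ v : ℝ) / 2 - φ v)
  obtain ⟨m, hm, hm₀⟩ := exists_sum_eq R hR root (fun e => ⌈-(1/2 : ℝ) - α e⌉) (b - ((Tᶜ).card : ℤ))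
  have htot : PhiStab.totDeg m Tᶜ = b := by rw [PhiStab.totDeg, hm₀]; ring
  have hdeg : (∑ v : V, φ v) = (PhiStab.totDeg m Tᶜ : ℝ) := by rw [htot, hφ]
  refine ⟨m, htot, (semistable_iff φ m Tᶜ).2 fun S _ _ => ?_⟩
  have hx : ∀ e, |∑ v ∈ R e, wt ends φ m Tᶜ v| ≤ 1 / 2 := by
    intro e
    have : ∑ v ∈ R e, wt ends φ m Tᶜ v = ((⌈-(1/2 : ℝ) - α e⌉ : ℤ) : ℝ) + α e := by
      rw [← hm e]
      simp only [α, wt, Int.cast_sum, ← sum_add_distrib]
      exact sum_congr rfl fun v _ => by ring
    rw [this, abs_le]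
    constructor <;> linarith [Int.le_ceil (-(1/2 : ℝ) - α e), Int.ceil_lt_add_one (-(1/2 : ℝ) - α e)]
  rw [slack_eq, sum_mul_eq hT R hR _ (wt_total hdeg) S, crossing_compl_tree]
  have hcard : ((crossing ends S ∩ T).card : ℝ) = ∑ e : {e : E // e ∈ T}, |delta (PhiStab.spanEnds ends T) S e| := by
    have : ∀ e : {e : E // e ∈ T}, |delta (PhiStab.spanEnds ends T) S e| = if e.1 ∈ crossing ends S then 1 else 0 := by
      intro e
      simp only [delta, PhiStab.spanEnds, crossing, mem_filter, mem_univ, true_and]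
      by_cases h1 : (ends e.1).1 ∈ S <;> by_cases h2 : (ends e.1).2 ∈ S <;> simp [h1, h2]
    rw [sum_congr rfl fun e _ => this e]
    rw [show (∑ e : {e : E // e ∈ T}, if e.1 ∈ crossing ends S then (1:ℝ) else 0) =
      ∑ e ∈ T, if e ∈ crossing ends S then (1:ℝ) else 0 from sum_coe_sort T fun e => if e ∈ crossing ends S then (1:ℝ) else 0]
    rw [sum_boole, filter_mem_eq_inter, inter_comm]
  rw [hcard, sum_div, ← sum_add_distrib]
  refine sum_nonneg fun e _ => ?_
  have h1 := neg_abs_le (delta (PhiStab.spanEnds ends T) S e * ∑ v ∈ R e, wt ends φ m Tᶜ v)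
  rw [abs_mul] at h1
  have h2 := mul_le_mul_of_nonneg_left (hx e) (abs_nonneg (delta (PhiStab.spanEnds ends T) S e))
  linarith

theorem eq_of_stable (hT : DualGr.IsTree (PhiStab.spanEnds ends T)) (b : ℤ) (φ : V → ℝ)
    (hφ : (∑ v : V, φ v) = (b : ℝ)) {m m' : V → ℤ}
    (h : PhiStab.totDeg m Tᶜ = b) (h' : PhiStab.totDeg m' Tᶜ = b)
    (hs : PhiStab.IsStable ends φ m Tᶜ) (hs' : PhiStab.IsStable ends φ m' Tᶜ) : m = m' := by
  obtain ⟨R, hR⟩ := exists_coordinates hT
  have hR0 : ∀ e, ∑ v ∈ R e, ((m v : ℝ) - m' v) = 0 := by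
    intro e
    have hne : (R e).Nonempty := ⟨_, (hR e).1⟩
    have hne' : R e ≠ univ := fun hu => (hR e).2.1 (hu ▸ mem_univ _)
    have hc : (crossing ends (R e) ∩ T).card = 1 := by rw [crossing_inter_eq (hR e), card_singleton]
    obtain ⟨a1, a2⟩ := slack_lt_one (by rw [h, hφ]) hs hne hne' hc
    obtain ⟨b1, b2⟩ := slack_lt_one (by rw [h', hφ]) hs' hne hne' hc
    have e1 : slack ends φ m Tᶜ (R e) - slack ends φ m' Tᶜ (R e) = ((∑ v ∈ R e, (m v - m' v) : ℤ) : ℝ) := by
      simp [slack, PhiStab.degOn, sum_sub_distrib]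
    have hlt : |((∑ v ∈ R e, (m v - m' v) : ℤ) : ℝ)| < 1 := by rw [← e1, abs_lt]; constructor <;> linarith
    have hz : (∑ v ∈ R e, (m v - m' v) : ℤ) = 0 := by
      rw [← Int.abs_lt_one_iff]
      exact_mod_cast hlt
    have := congrArg (fun z : ℤ => (z : ℝ)) hz
    push_cast at this
    exact this
  have htot : ∑ v, ((m v : ℝ) - m' v) = 0 := by
    have := congrArg (fun z : ℤ => (z : ℝ)) (h.trans h'.symm)
    simp [PhiStab.totDeg] at this
    rw [sum_sub_distrib]; linarith
  funext v
  have := sum_mul_eq hT R hR _ htot {v}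
  simp only [hR0, mul_zero, sum_const_zero, sum_singleton, sub_eq_zero, Int.cast_inj] at this
  exact this

/-- Removing an edge of a circuit keeps the graph connected. -/
theorem connected_erase (hc : LabGraph.Connected (PhiStab.spanEnds ends T)) {C : Finset {e : E // e ∈ T}}
    (hC : LabGraph.IsCircuit (PhiStab.spanEnds ends T) C) {e : {e : E // e ∈ T}} (he : e ∈ C) :
    LabGraph.Connected (PhiStab.spanEnds ends (T.erase e.1)) := by
  classical
  let A := Relation.ReflTransGen (LabGraph.Adj (PhiStab.spanEnds ends (T.erase e.1)))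
  have hsym : ∀ x y, A x y → A y x := fun x y h => by
    induction h with
    | refl => exact .refl
    | tail _ hs ihs =>
      obtain ⟨e', he'⟩ := hs
      exact Relation.ReflTransGen.head ⟨e', he'.symm⟩ ihs
  by_cases hl : A (ends e.1).1 (ends e.1).2
  · refine ⟨hc.1, fun a b => ?_⟩
    induction hc.2 a b with
    | refl => exact .refl
    | @tail x y _ hs ih =>
      refine ih.trans ?_
      obtain ⟨e', he'⟩ := hs
      by_cases hee : e' = e
      · subst hee
        rcases he' with he' | he' <;>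
        · change ends e'.1 = _ at he'
          rw [he'] at hl
          first | exact hl | exact hsym _ _ hl
      · exact .single ⟨⟨e'.1, mem_erase.2 ⟨fun hh => hee (Subtype.ext hh), e'.2⟩⟩, he'⟩
  · exfalso
    let R : Finset V := univ.filter (A (ends e.1).1)
    have heven : Even (∑ v ∈ R, endCount (PhiStab.spanEnds ends T) C v) :=
      Finset.even_sum _ (fun v _ => hC.2.1 v)
    have hodd : Odd (∑ v ∈ R, endCount (PhiStab.spanEnds ends T) C v) := by
      simp only [endCount]
      rw [sum_comm, ← Finset.add_sum_erase _ _ he]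
      refine Odd.add_even ?_ (Finset.even_sum _ (fun e' he' => ?_))
      · have h1 : (ends e.1).1 ∈ R := mem_filter.2 ⟨mem_univ _, .refl⟩
        have h2 : (ends e.1).2 ∉ R := fun h => hl (mem_filter.1 h).2
        simp only [sum_add_distrib]
        rw [Finset.sum_eq_single (PhiStab.spanEnds ends T e).1 (fun x _ hx => if_neg hx.symm) (fun h => absurd h1 h),
          Finset.sum_eq_zero (fun x hx => if_neg (fun (h : (PhiStab.spanEnds ends T e).2 = x) => h2 (show (PhiStab.spanEnds ends T e).2 ∈ R from h ▸ hx)))]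
        simp
      · have hne : e'.1 ≠ e.1 := fun hh => (mem_erase.1 he').1 (Subtype.ext hh)
        have hiff : (ends e'.1).1 ∈ R ↔ (ends e'.1).2 ∈ R := by
          simp only [R, mem_filter, mem_univ, true_and]
          exact ⟨fun h => h.tail ⟨⟨e'.1, mem_erase.2 ⟨hne, e'.2⟩⟩, .inl rfl⟩,
            fun h => h.tail ⟨⟨e'.1, mem_erase.2 ⟨hne, e'.2⟩⟩, .inr rfl⟩⟩
        simp only [sum_add_distrib]
        by_cases h1 : (ends e'.1).1 ∈ R
        · rw [Finset.sum_eq_single (PhiStab.spanEnds ends T e').1 (fun x _ hx => if_neg hx.symm) (fun h => absurd h1 h),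
            Finset.sum_eq_single (PhiStab.spanEnds ends T e').2 (fun x _ hx => if_neg hx.symm) (fun h => absurd (hiff.1 h1) h)]
          simp
        · rw [Finset.sum_eq_zero (fun x hx => if_neg (fun (h : (PhiStab.spanEnds ends T e').1 = x) => h1 (show (PhiStab.spanEnds ends T e').1 ∈ R from h ▸ hx))),
            Finset.sum_eq_zero (fun x hx => if_neg (fun (h : (PhiStab.spanEnds ends T e').2 = x) => h1 (hiff.2 (show (PhiStab.spanEnds ends T e').2 ∈ R from h ▸ hx))))]
          simp
    exact (Nat.not_even_iff_odd.2 hodd) heven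

/-- A spanning tree meeting the cut of an elementary set once. -/
theorem exists_tree (hconn : LabGraph.Connected ends) {S : Finset V} (hS : PhiStab.IsElementary ends S) :
    ∃ T : Finset E, DualGr.IsTree (PhiStab.spanEnds ends T) ∧ (crossing ends S ∩ T).card = 1 := by
  classical
  obtain ⟨⟨s, hs⟩, hSu⟩ := ne_univ_of_elementary hS
  obtain ⟨w, hw⟩ : ∃ w, w ∉ S := by
    by_contra h; push Not at h; exact hSu (eq_univ_of_forall h)
  obtain ⟨e₀, he₀⟩ : ∃ e, e ∈ crossing ends S := by
    by_contra h; push Not at h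
    refine hw ?_
    induction hconn.2 s w with
    | refl => exact hs
    | @tail x y _ hxy ih =>
      obtain ⟨e, he⟩ := hxy
      have := h e
      rcases he with he | he <;> simp [crossing, he] at this <;> tauto
  let T₀ := insert e₀ (PhiStab.inner ends S ∪ PhiStab.inner ends Sᶜ)
  have hc₀ : LabGraph.Connected (PhiStab.spanEnds ends T₀) := by
    let A := Relation.ReflTransGen (LabGraph.Adj (PhiStab.spanEnds ends T₀))
    have h : ∀ Q : Finset V, PhiStab.inner ends Q ⊆ T₀ → LabGraph.Connected (PhiStab.indEnds ends Q) →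
        ∀ x y, x ∈ Q → y ∈ Q → A x y := by
      intro Q hQ hQc x y hx hy
      suffices ∀ z v : {v // v ∈ Q}, Relation.ReflTransGen (LabGraph.Adj (PhiStab.indEnds ends Q)) z v → A z.1 v.1 from
        this _ _ (hQc.2 ⟨x, hx⟩ ⟨y, hy⟩)
      intro z v hzv
      induction hzv with
      | refl => exact .refl
      | tail _ hs ihs =>
        obtain ⟨⟨e, he⟩, hh⟩ := hs
        refine ihs.tail ⟨⟨e, hQ he⟩, ?_⟩
        exact hh.imp (fun h => congrArg (fun p => (p.1.1, p.2.1)) h) (fun h => congrArg (fun p => (p.1.1, p.2.1)) h)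
    have hA := h S (fun e he => mem_insert_of_mem (mem_union_left _ he)) hS.1
    have hB := h Sᶜ (fun e he => mem_insert_of_mem (mem_union_right _ he)) hS.2
    have hstep : A (ends e₀).1 (ends e₀).2 ∧ A (ends e₀).2 (ends e₀).1 :=
      ⟨.single ⟨⟨e₀, mem_insert_self _ _⟩, .inl rfl⟩, .single ⟨⟨e₀, mem_insert_self _ _⟩, .inr rfl⟩⟩
    refine ⟨hconn.1, fun x y => ?_⟩
    obtain ⟨p, q, hp, hq, hpq, hqp⟩ : ∃ p q, p ∈ S ∧ q ∈ Sᶜ ∧ A p q ∧ A q p := by
      rcases (mem_filter.1 he₀).2 with ⟨h1, h2⟩ | ⟨h1, h2⟩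
      · exact ⟨_, _, h1, mem_compl.2 h2, hstep.1, hstep.2⟩
      · exact ⟨_, _, h2, mem_compl.2 h1, hstep.2, hstep.1⟩
    by_cases hx : x ∈ S <;> by_cases hy : y ∈ S
    · exact hA x y hx hy
    · exact (hA x p hx hp).trans (hpq.trans (hB q y hq (mem_compl.2 hy)))
    · exact (hB x q (mem_compl.2 hx) hq).trans (hqp.trans (hA p y hp hy))
    · exact hB x y (mem_compl.2 hx) (mem_compl.2 hy)
  obtain ⟨T, hT, hmin⟩ := Finset.exists_min_image (T₀.powerset.filter fun T => LabGraph.Connected (PhiStab.spanEnds ends T))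
    Finset.card ⟨T₀, by simp [hc₀]⟩
  simp only [mem_filter, mem_powerset] at hT hmin
  refine ⟨T, ⟨hT.2, fun C hC => ?_⟩, ?_⟩
  · obtain ⟨e, he⟩ := hC.1
    have hle := hmin (T.erase e.1) ⟨(erase_subset _ _).trans hT.1, connected_erase hT.2 hC he⟩
    rw [card_erase_of_mem e.2] at hle
    have := card_pos.2 ⟨e.1, e.2⟩
    omega
  · have hsub : crossing ends S ∩ T ⊆ {e₀} := by
      intro e he
      rw [mem_inter] at he
      have := hT.1 he.2
      simp only [T₀, mem_insert, mem_union, PhiStab.inner, mem_filter, mem_univ, true_and, mem_compl] at this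
      have h1 := (mem_filter.1 he.1).2
      rw [mem_singleton]; tauto
    have hne : (crossing ends S ∩ T).Nonempty := by
      by_contra h
      rw [not_nonempty_iff_eq_empty] at h
      refine hw ?_
      induction hT.2.2 s w with
      | refl => exact hs
      | @tail x y _ hxy ih =>
        obtain ⟨⟨e, heT⟩, he⟩ := hxy
        change ends e = _ ∨ ends e = _ at he
        have : e ∉ crossing ends S := fun hh => by
          have := mem_inter.2 ⟨hh, heT⟩; rw [h] at this; simp at this
        rcases he with he | he <;> simp [crossing, he] at this <;> tauto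
    rw [subset_singleton_iff] at hsub
    rcases hsub with h | h
    · simp [h] at hne
    · simp [h]

end GrothLib.PhiStab
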